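import Cfsg.Agent.FGS76.CountPow

/-!
Counting for S3648: a group of order `q (q² - 1)` whose numbers of elements of given order are all
`1`, `q² - 1` or multiples of `q`, with `q²` attained, has exactly `q²` involutions, exactly
`q² - 1` elements of order `p`, and no further elements of order divisible by `p`.
-/

set_option autoImplicit false

namespace Cfsg.Agent.NsePGL

/-- The number of elements of order `k`. -/
noncomputable def ordCount (G : Type*) [Group G] (k : ℕ) : ℕ := Nat.card {g : G // orderOf g = k}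

/-- The arithmetic shape of `PGL(2,q)`. -/
structure Hyp (G : Type*) [Group G] (p q : ℕ) : Prop where
  prime : p.Prime
  pow : ∃ f, 1 ≤ f ∧ q = p ^ f
  odd : Odd q
  three : 3 ≤ q
  card : Nat.card G = q * (q ^ 2 - 1)
  only : ∀ x : G, p ∣ orderOf x → orderOf x = p
  numP : ordCount G p = q ^ 2 - 1

theorem coprime_sq_sub_one {q : ℕ} (hq : 1 ≤ q) : Nat.Coprime q (q ^ 2 - 1) := by
  refine Nat.coprime_of_dvd' fun k _ h1 h2 => ?_
  have hq2 : 1 ≤ q ^ 2 := Nat.one_le_pow _ _ hq
  have := Nat.dvd_sub (dvd_pow h1 two_ne_zero : k ∣ q ^ 2) h2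
  rwa [show q ^ 2 - (q ^ 2 - 1) = 1 by omega] at this

theorem Hyp.odd_p {G : Type*} [Group G] {p q : ℕ} (H : Hyp G p q) : p ≠ 2 := by
  obtain ⟨f, hf, hq⟩ := H.pow
  rintro rfl
  exact Nat.not_even_iff_odd.2 H.odd (hq ▸ Nat.even_pow.2 ⟨even_two, by omega⟩)

variable {G : Type*} [Group G] [Finite G]

theorem ordCount_pos (x : G) : 0 < ordCount G (orderOf x) :=
  Nat.card_pos_iff.2 ⟨⟨x, rfl⟩, inferInstance⟩

theorem ordCount_one : ordCount G 1 = 1 := by
  refine Nat.card_eq_one_iff_unique.2 ⟨⟨fun a b => Subtype.ext ?_⟩, ⟨⟨1, orderOf_one⟩⟩⟩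
  rw [orderOf_eq_one_iff.1 a.2, orderOf_eq_one_iff.1 b.2]

/-- Inversion pairs off the elements of order at least three. -/
theorem even_ordCount {k : ℕ} (hk : k ≠ 1) (hk2 : k ≠ 2) : Even (ordCount G k) := by
  classical
  have := Fintype.ofFinite G
  rw [ordCount, Nat.card_eq_fintype_card, Fintype.card_subtype, ← ZMod.natCast_eq_zero_iff_even,
    Finset.card_eq_sum_ones, Nat.cast_sum, Nat.cast_one]
  refine Finset.sum_involution (fun x _ => x⁻¹) (fun x _ => by decide) (fun x hx _ h => ?_) ?_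
    (fun x _ => inv_inv x)
  · have h' : x * x = 1 := inv_eq_iff_mul_eq_one.1 h
    have := (Nat.dvd_prime Nat.prime_two).1 (orderOf_dvd_of_pow_eq_one (x := x) (n := 2) (by rw [pow_two, h']))
    rw [(Finset.mem_filter.1 hx).2] at this
    rcases this with e | e <;> contradiction
  · intro x hx
    simpa using hx

/-- The number of elements whose order is not divisible by `p`. -/
noncomputable def regCount (G : Type*) [Group G] (p : ℕ) : ℕ :=
  Nat.card {g : G // ¬ p ∣ orderOf g}

/-- The counting lemma. -/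
theorem hyp_of_values {p q : ℕ} (hp : p.Prime) (hpow : ∃ f, 1 ≤ f ∧ q = p ^ f) (hodd : Odd q)
    (hq : 3 ≤ q) (hcard : Nat.card G = q * (q ^ 2 - 1))
    (hv : ∀ x : G, ordCount G (orderOf x) = 1 ∨ ordCount G (orderOf x) = q ^ 2 - 1 ∨
      q ∣ ordCount G (orderOf x))
    (h2 : ∃ k, ordCount G k = q ^ 2) : Hyp G p q ∧ ordCount G 2 = q ^ 2 := by
  classical
  have := Fintype.ofFinite G
  have : NeZero q := ⟨by omega⟩
  have : Fact (1 < q) := ⟨by omega⟩
  obtain ⟨f, hf, hqf⟩ := hpow
  have hpq : p ∣ q := hqf ▸ dvd_pow_self p (by omega)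
  obtain ⟨d, hd⟩ : ∃ d, q ^ 2 = d + 1 := ⟨q ^ 2 - 1, by have := Nat.one_le_pow 2 q (by omega); omega⟩
  have hd1 : q ^ 2 - 1 = d := by omega
  have hd8 : 8 ≤ d := by nlinarith
  have h9 : q ^ 2 = q * q := pow_two q
  -- the involutions
  have hm2 : ordCount G 2 = q ^ 2 := by
    obtain ⟨k, hk⟩ := h2
    have hk1 : k ≠ 1 := by rintro rfl; rw [ordCount_one] at hk; omega
    by_cases hk2 : k = 2
    · exact hk2 ▸ hk
    · exact absurd (hk ▸ even_ordCount hk1 hk2) (Nat.not_even_iff_odd.2 hodd.pow)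
  set m := ordCount G with hm
  have hfib : ∀ k, m k = (Finset.univ.filter fun g : G => orderOf g = k).card := fun k => by
    rw [hm, ordCount, Nat.card_eq_fintype_card, Fintype.card_subtype]
  set K := Finset.univ.image (orderOf : G → ℕ) with hK
  have hsum : ∑ k ∈ K, m k = q * d := by
    rw [← hd1, ← hcard, Nat.card_eq_fintype_card, ← Finset.card_univ,
      Finset.card_eq_sum_card_image (orderOf : G → ℕ)]
    exact Finset.sum_congr rfl fun k _ => hfib k
  have hmem : ∀ {k}, k ∈ K → ∃ x : G, orderOf x = k := fun hk => by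
    simpa [hK] using hk
  have h1K : 1 ∈ K := by simp only [hK, Finset.mem_image]; exact ⟨1, Finset.mem_univ _, orderOf_one⟩
  have hne1 : ∀ k ∈ K, k ≠ 1 → m k ≠ 1 := by
    intro k hk hk1 he
    by_cases hk2 : k = 2
    · rw [hk2, hm2] at he; omega
    · have := even_ordCount (G := G) hk1 hk2
      rw [← hm, he] at this
      exact absurd this (by decide)
  -- the value `q² - 1`
  set J := K.filter fun k => m k = d with hJ
  have hJ1 : ∀ k ∈ J, k ≠ 1 ∧ k ≠ 2 := by
    intro k hk
    rw [Finset.mem_filter] at hk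
    constructor <;> rintro rfl
    · rw [hm, ordCount_one] at hk; omega
    · rw [hm2] at hk; omega
  have hrest : ∀ k ∈ K, k ≠ 1 → k ∉ J → q ∣ m k := by
    intro k hk hk1 hkJ
    obtain ⟨x, rfl⟩ := hmem hk
    rcases hv x with h | h | h
    · exact absurd h (hne1 _ hk hk1)
    · exact (hkJ (by rw [hJ, Finset.mem_filter]; exact ⟨hk, h.trans hd1⟩)).elim
    · exact h
  have hdz : (d : ZMod q) = -1 := by
    refine eq_neg_of_add_eq_zero_left ?_
    rw [← Nat.cast_one, ← Nat.cast_add, ← hd, ZMod.natCast_eq_zero_iff]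
    exact dvd_pow_self q two_ne_zero
  have hmz : ∀ k ∈ K, (m k : ZMod q) =
      (if k = 1 then 1 else 0) - (if k ∈ J then 1 else 0) := by
    intro k hk
    by_cases hk1 : k = 1
    · subst hk1
      rw [if_pos rfl, if_neg fun h => (hJ1 1 h).1 rfl, hm, ordCount_one]
      simp
    · rw [if_neg hk1]
      by_cases hkJ : k ∈ J
      · rw [if_pos hkJ, (Finset.mem_filter.1 hkJ).2, hdz, zero_sub]
      · rw [if_neg hkJ, sub_zero, ZMod.natCast_eq_zero_iff]
        exact hrest k hk hk1 hkJ
  have hJz : (J.card : ZMod q) = 1 := by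
    have := congrArg (Nat.cast : ℕ → ZMod q) hsum
    rw [Nat.cast_sum, Finset.sum_congr rfl hmz, Finset.sum_sub_distrib, Finset.sum_ite_eq',
      if_pos h1K, Finset.sum_boole, Nat.cast_mul, ZMod.natCast_self, zero_mul,
      Finset.filter_mem_eq_inter, sub_eq_zero,
      Finset.inter_eq_right.2 (Finset.filter_subset _ _)] at this
    exact this.symm
  have hJlt : J.card < q := by
    have hsub : insert 2 J ⊆ K := by
      refine Finset.insert_subset ?_ (Finset.filter_subset _ _)
      have : 0 < m 2 := by rw [hm2]; positivity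
      obtain ⟨⟨x, hx⟩⟩ := (Nat.card_pos_iff.1 this).1
      exact Finset.mem_image.2 ⟨x, Finset.mem_univ _, hx⟩
    have hle := Finset.sum_le_sum_of_subset (f := m) hsub
    rw [hsum, Finset.sum_insert (fun h => (hJ1 2 h).2 rfl),
      Finset.sum_congr rfl (fun k hk => (Finset.mem_filter.1 hk).2 : ∀ k ∈ J, m k = d),
      Finset.sum_const, smul_eq_mul, hm2] at hle
    by_contra hge
    push Not at hge
    have := Nat.mul_le_mul_right d hge
    omega
  have hJ1' : J.card = 1 := by
    have := congrArg ZMod.val hJz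
    rwa [ZMod.val_natCast_of_lt hJlt, ZMod.val_one] at this
  -- the prime is the order with that value
  have : Fact p.Prime := ⟨hp⟩
  have hpG : p ∣ Nat.card G := hcard ▸ hpq.mul_right _
  have hpK : p ∈ K := by
    obtain ⟨x, hx⟩ := exists_prime_orderOf_dvd_card' p hpG
    exact Finset.mem_image.2 ⟨x, Finset.mem_univ _, hx⟩
  have hpow1 : Nat.card {g : G // g ^ p = 1} = 1 + m p := by
    rw [hfib, Nat.card_eq_fintype_card, Fintype.card_subtype, show
      (Finset.univ.filter fun g : G => g ^ p = 1) =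
        insert 1 (Finset.univ.filter fun g : G => orderOf g = p) from ?_,
      Finset.card_insert_of_notMem (by simp [hp.one_lt.ne]), add_comm]
    ext g
    simp only [Finset.mem_filter, Finset.mem_univ, true_and, Finset.mem_insert]
    refine ⟨fun h => ?_, ?_⟩
    · rcases (Nat.dvd_prime hp).1 (orderOf_dvd_of_pow_eq_one h) with e | e
      · exact Or.inl (orderOf_eq_one_iff.1 e)
      · exact Or.inr e
    · rintro (rfl | h)
      · exact one_pow p
      · rw [← h, pow_orderOf_eq_one]
  have hmp : m p = d := by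
    by_contra hne
    have hpJ : p ∉ J := fun h => hne (Finset.mem_filter.1 h).2
    have h1 := FGS76.gcd_dvd_card_pow_eq_one G p
    rw [Nat.gcd_eq_left hpG, hpow1] at h1
    have h2' : p ∣ m p := hpq.trans (hrest p hpK hp.one_lt.ne' hpJ)
    exact hp.one_lt.ne' (Nat.dvd_one.1 ((Nat.dvd_add_left h2').1 h1))
  have hJp : ∀ k, k ∈ J ↔ k = p := by
    obtain ⟨k₀, hk₀⟩ := Finset.card_eq_one.1 hJ1'
    have : p ∈ J := Finset.mem_filter.2 ⟨hpK, hmp⟩
    rw [hk₀, Finset.mem_singleton] at this
    intro k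
    rw [hk₀, Finset.mem_singleton, this]
  -- the elements of order prime to `p`
  set R := Finset.univ.filter fun g : G => ¬ p ∣ orderOf g with hR
  set S := Finset.univ.filter fun g : G => p ∣ orderOf g with hS
  have hRS : S.card + R.card = q * d := by
    rw [← hd1, ← hcard, Nat.card_eq_fintype_card, ← Finset.card_univ]
    exact Finset.card_filter_add_card_filter_not _
  have hRz : (R.card : ZMod q) = 1 := by
    have h' : R.card = ∑ k ∈ K.filter (fun k => ¬ p ∣ k), m k := by
      rw [Finset.card_eq_sum_card_fiberwise (f := orderOf) (t := K.filter fun k => ¬ p ∣ k)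
        fun g hg => Finset.mem_filter.2 ⟨Finset.mem_image.2 ⟨g, Finset.mem_univ _, rfl⟩,
          (Finset.mem_filter.1 hg).2⟩]
      refine Finset.sum_congr rfl fun k hk => ?_
      rw [hfib, Finset.filter_filter]
      congr 1
      ext g
      simp only [Finset.mem_filter, Finset.mem_univ, true_and, and_iff_right_iff_imp]
      exact fun h => h ▸ (Finset.mem_filter.1 hk).2
    have h0 : ∑ k ∈ K.filter (fun k => ¬ p ∣ k), (if k ∈ J then (1 : ZMod q) else 0) = 0 :=
      Finset.sum_eq_zero fun k hk => if_neg fun h =>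
        (Finset.mem_filter.1 hk).2 (by rw [(hJp k).1 h])
    rw [h', Nat.cast_sum, Finset.sum_congr rfl fun k hk => hmz k (Finset.mem_filter.1 hk).1,
      Finset.sum_sub_distrib, Finset.sum_ite_eq', if_pos (Finset.mem_filter.2 ⟨h1K,
        fun h => hp.one_lt.ne' (Nat.dvd_one.1 h)⟩),
      h0, sub_zero]
  have hcop : ∀ g : G, ¬ p ∣ orderOf g ↔ g ^ d = 1 := by
    intro g
    have hdvd : orderOf g ∣ q * d := hd1 ▸ hcard ▸ orderOf_dvd_natCard g
    refine ⟨fun h => orderOf_dvd_iff_pow_eq_one.1 (Nat.Coprime.dvd_of_dvd_mul_left ?_ hdvd),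
      fun h hpd => ?_⟩
    · rw [hqf]
      exact Nat.Coprime.pow_right f (hp.coprime_iff_not_dvd.2 h).symm
    · have := Nat.dvd_gcd hpq (hpd.trans (orderOf_dvd_of_pow_eq_one h))
      rw [← hd1, (coprime_sq_sub_one (by omega : 1 ≤ q)).gcd_eq_one] at this
      exact hp.one_lt.ne' (Nat.dvd_one.1 this)
  obtain ⟨t, ht⟩ : d ∣ R.card := by
    have h1 := FGS76.gcd_dvd_card_pow_eq_one G d
    rw [Nat.gcd_eq_left (hcard ▸ hd1 ▸ dvd_mul_left _ _), Nat.card_eq_fintype_card,
      Fintype.card_subtype] at h1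
    convert h1 using 3
    exact hcop _
  have hsubS : (Finset.univ.filter fun g : G => orderOf g = p) ⊆ S := fun g hg => by
    simp only [hS, Finset.mem_filter, Finset.mem_univ, true_and] at hg ⊢
    rw [hg]
  have hSge : d ≤ S.card := by
    rw [← hmp, hfib]
    exact Finset.card_le_card hsubS
  have htq : t + 1 = q := by
    have hz : ((t + 1 : ℕ) : ZMod q) = 0 := by
      rw [ht, Nat.cast_mul, hdz] at hRz
      push_cast
      linear_combination -hRz
    have hle : t + 1 ≤ q := by
      have h3 : d * (t + 1) ≤ d * q := by rw [mul_add, ← ht, mul_one, mul_comm d q]; omega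
      exact Nat.le_of_mul_le_mul_left h3 (by omega)
    exact le_antisymm hle (Nat.le_of_dvd (by omega) ((ZMod.natCast_eq_zero_iff _ _).1 hz))
  have hScard : S.card = d := by
    rw [← htq, ht, add_mul, one_mul, mul_comm t d] at hRS
    omega
  refine ⟨⟨hp, ⟨f, hf, hqf⟩, hodd, hq, hcard, fun x hx => ?_, hmp.trans hd1.symm⟩, hm2⟩
  have heq := Finset.eq_of_subset_of_card_le hsubS (by rw [hScard, ← hfib, hmp])
  have : x ∈ S := Finset.mem_filter.2 ⟨Finset.mem_univ _, hx⟩
  rw [← heq] at this
  exact (Finset.mem_filter.1 this).2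

/-- Away from `1` and `p` the numbers of elements of given order are multiples of `q`. -/
theorem Hyp.dvd_ordCount {p q : ℕ} (H : Hyp G p q) {k : ℕ} (hk : k ≠ 1) (hkp : k ≠ p) :
    q ∣ ordCount G k := by
  classical
  by_cases hpk : p ∣ k
  · have : IsEmpty {g : G // orderOf g = k} := ⟨fun g => hkp (g.2.symm.trans (H.only g.1 (g.2.symm ▸ hpk)))⟩
    rw [ordCount, Nat.card_of_isEmpty]
    exact dvd_zero q
  have : Fact p.Prime := ⟨H.prime⟩
  obtain ⟨f, hf, hq⟩ := H.pow
  obtain ⟨S, hS⟩ := Sylow.exists_subgroup_card_pow_prime (G := G) p (n := f)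
    (by rw [H.card, ← hq]; exact dvd_mul_right _ _)
  rw [← hq] at hS
  let _ : MulAction S {g : G // orderOf g = k} :=
    { smul := fun s g => ⟨(s : G) * g.1 * (s : G)⁻¹, by
        exact (orderOf_injective (MulAut.conj (s : G)).toMonoidHom
          (MulAut.conj (s : G)).injective g.1).trans g.2⟩
      one_smul := fun g => Subtype.ext (show ((1 : S) : G) * g.1 * ((1 : S) : G)⁻¹ = g.1 by simp)
      mul_smul := fun s t g => Subtype.ext (show ((s * t : S) : G) * g.1 * ((s * t : S) : G)⁻¹ =
        (s : G) * ((t : G) * g.1 * (t : G)⁻¹) * (s : G)⁻¹ by simp [mul_assoc]) }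
  have hfree : ∀ g : {g : G // orderOf g = k}, MulAction.stabilizer S g = ⊥ := by
    intro g
    rw [Subgroup.eq_bot_iff_forall]
    intro s hs
    have hs' : (s : G) * g.1 * (s : G)⁻¹ = g.1 := congrArg Subtype.val hs
    have hc : Commute (s : G) g.1 := mul_inv_eq_iff_eq_mul.1 hs'
    by_contra hs1
    have hso : p ∣ orderOf (s : G) := by
      have h1 : orderOf (s : G) ∣ p ^ f := by
        rw [← hq, ← hS]
        exact Subgroup.orderOf_coe s ▸ orderOf_dvd_natCard s
      obtain ⟨i, -, hi⟩ := (Nat.dvd_prime_pow H.prime).1 h1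
      rcases i with _ | i
      · exact absurd (Subtype.ext (orderOf_eq_one_iff.1 (by rw [hi, pow_zero]))) hs1
      · rw [hi]; exact dvd_pow_self p (by omega)
    have hso' := H.only _ hso
    have hcop : (orderOf (s : G)).Coprime (orderOf g.1) := by
      rw [hso', g.2]; exact H.prime.coprime_iff_not_dvd.2 hpk
    have h := hc.orderOf_mul_eq_mul_orderOf_of_coprime hcop
    rw [hso', g.2] at h
    have h' := H.only _ (h ▸ dvd_mul_right p k)
    rw [h] at h'
    exact hk ((mul_eq_left₀ H.prime.ne_zero).1 h')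
  rw [ordCount, Nat.card_congr (MulAction.selfEquivSigmaOrbitsQuotientStabilizer S _)]
  have := Fintype.ofFinite (MulAction.orbitRel.Quotient S {g : G // orderOf g = k})
  rw [Nat.card_sigma]
  refine Finset.dvd_sum fun ω _ => ?_
  rw [hfree]
  have : Nat.card (S ⧸ (⊥ : Subgroup S)) = q := by
    rw [← Subgroup.index, Subgroup.index_bot, hS]
  rw [this]

end Cfsg.Agent.NsePGL
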