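import Cfsg.Agent.NsePGL.Count
import Cfsg.Agent.RecogB.PGL2Orders
import Cfsg.Agent.ClMax99.PSLMax

/-!
`PGL(2,q)` has the arithmetic shape `Hyp` and `q²` involutions (S3648).
-/

set_option autoImplicit false
set_option linter.unusedSectionVars false

namespace Cfsg.Agent.NsePGL

open Matrix RecogB

variable {F : Type*} [Field F] [Fintype F]

/-- The traceless matrix with coordinates `v`. -/
def tz (v : F × F × F) : Matrix (Fin 2) (Fin 2) F := !![v.1, v.2.1; v.2.2, -v.1]

/-- The negated determinant of `tz`. -/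
def disc (v : F × F × F) : F := v.1 ^ 2 + v.2.1 * v.2.2

theorem tz_sq (v : F × F × F) : tz v * tz v = disc v • (1 : Matrix (Fin 2) (Fin 2) F) := by
  ext i j
  fin_cases i <;> fin_cases j <;>
    simp [tz, disc, Matrix.mul_apply, Fin.sum_univ_two] <;> ring

theorem det_tz (v : F × F × F) : (tz v).det = -disc v := by
  simp [tz, disc, Matrix.det_fin_two]; ring

/-- There are `q²` traceless singular matrices. -/
theorem card_singular : Nat.card {v : F × F × F // disc v = 0} = Fintype.card F ^ 2 := by
  classical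
  let e : {v : F × F × F // disc v = 0} ≃ F × F :=
    { toFun := fun v => if v.1.2.1 = 0 then (v.1.2.2, 0) else (v.1.1, v.1.2.1)
      invFun := fun xy => if h : xy.2 = 0 then ⟨(0, 0, xy.1), by simp [disc]⟩
        else ⟨(xy.1, xy.2, -xy.1 ^ 2 / xy.2), by simp only [disc]; field_simp; ring⟩
      left_inv := by
        rintro ⟨⟨a, b, c⟩, h⟩
        simp only [disc] at h
        by_cases hb : b = 0
        · subst hb
          have ha : a = 0 := by simpa using h
          simp [ha]
        · simp only [hb, if_false, dif_neg, not_false_iff]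
          refine Subtype.ext (Prod.ext rfl (Prod.ext rfl ?_))
          show -a ^ 2 / b = c
          field_simp
          linear_combination -h
      right_inv := by
        rintro ⟨x, y⟩
        by_cases hy : y = 0
        · simp [hy]
        · simp [hy] }
  rw [Nat.card_congr e, Nat.card_prod, Nat.card_eq_fintype_card, pow_two]

theorem mk_eq_mk_iff (g h : GL (Fin 2) F) :
    (QuotientGroup.mk g : PGLTwo F) = QuotientGroup.mk h ↔
      ∃ r : F, r ≠ 0 ∧ (h : Matrix (Fin 2) (Fin 2) F) = r • (g : Matrix (Fin 2) (Fin 2) F) := by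
  rw [← inv_mul_eq_one, ← QuotientGroup.mk_inv, ← QuotientGroup.mk_mul, pgl2_mk_eq_one_iff]
  constructor
  · intro hs
    set A := ((g⁻¹ * h : GL (Fin 2) F) : Matrix (Fin 2) (Fin 2) F)
    have hA : A = A 1 1 • 1 := by
      obtain ⟨h1, h2, h3⟩ := hs
      ext i j
      fin_cases i <;> fin_cases j <;> simp [h1, h2, h3]
    refine ⟨A 1 1, fun h0 => ?_, ?_⟩
    · have := (g⁻¹ * h).det.ne_zero
      rw [Matrix.GeneralLinearGroup.val_det_apply] at this
      exact this (show A.det = 0 by rw [hA, h0]; simp)
    · calc (h : Matrix (Fin 2) (Fin 2) F) = (g : Matrix (Fin 2) (Fin 2) F) * A := by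
            rw [← Units.val_mul, mul_inv_cancel_left]
        _ = _ := by rw [hA, Matrix.mul_smul, mul_one]; simp
  · rintro ⟨r, -, hr⟩
    rw [Units.val_mul, hr, Matrix.mul_smul, Units.inv_mul]
    exact SL2Tor.isScalar_smul_one r

variable (p : ℕ) [hp : Fact p.Prime] [CharP F p]

theorem two_ne_zero' (hodd : Odd (Fintype.card F)) : (2 : F) ≠ 0 := by
  intro h
  have : ringChar F ≠ 2 := fun h2 => by
    have := FiniteField.even_card_of_char_two h2
    exact Nat.not_even_iff_odd.2 hodd (Nat.even_iff.2 this)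
  exact Ring.two_ne_zero this h

theorem prime_odd (hodd : Odd (Fintype.card F)) : Odd p := by
  refine hp.out.odd_of_ne_two ?_
  rintro rfl
  exact two_ne_zero' hodd (by exact_mod_cast CharP.cast_eq_zero F 2)

/-- The traceless part of a matrix. -/
theorem exists_tz (h2 : (2 : F) ≠ 0) (A : Matrix (Fin 2) (Fin 2) F) :
    ∃ (s : F) (v : F × F × F), A = s • 1 + tz v := by
  refine ⟨(A 0 0 + A 1 1) / 2, ((A 0 0 - A 1 1) / 2, A 0 1, A 1 0), ?_⟩
  ext i j
  fin_cases i <;> fin_cases j <;> simp [tz] <;> field_simp <;> ring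

theorem tz_eq_smul_one {v : F × F × F} {r : F} (h2 : (2 : F) ≠ 0)
    (h : tz v = r • (1 : Matrix (Fin 2) (Fin 2) F)) : r = 0 ∧ v = 0 := by
  have a := congrFun (congrFun h 0) 0
  have b := congrFun (congrFun h 0) 1
  have c := congrFun (congrFun h 1) 0
  have d := congrFun (congrFun h 1) 1
  simp [tz] at a b c d
  have hr : r = 0 := by
    refine (mul_eq_zero.1 (show (2 : F) * r = 0 by linear_combination -a - d)).resolve_left h2
  exact ⟨hr, Prod.ext (a.trans hr) (Prod.ext b c)⟩

theorem hyp_pgl (hodd : Odd (Fintype.card F)) (h3 : 3 ≤ Fintype.card F) :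
    Hyp (PGLTwo F) p (Fintype.card F) ∧ ordCount (PGLTwo F) 2 = Fintype.card F ^ 2 := by
  classical
  have hpp := hp.out
  have h2 := two_ne_zero' hodd
  obtain ⟨f, -, hf⟩ := FiniteField.card F p
  have hpq : p ∣ Fintype.card F := hf ▸ dvd_pow_self p (PNat.ne_zero f)
  have hpodd := prime_odd p hodd
  set q := Fintype.card F with hq
  have hord : ∀ x : PGLTwo F, p ∣ orderOf x → orderOf x = p := by
    intro x hx
    rcases pgl2_orderOf_dvd p x with h | h | h
    · exact Nat.dvd_antisymm h hx
    · have := Nat.dvd_sub hpq (hx.trans h)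
      rw [← hq, show q - (q - 1) = 1 by omega] at this
      exact absurd (Nat.dvd_one.1 this) hpp.one_lt.ne'
    · have := (Nat.dvd_add_right hpq).1 (hx.trans h)
      exact absurd (Nat.dvd_one.1 this) hpp.one_lt.ne'
  -- unipotents
  have hnum : ordCount (PGLTwo F) p = q ^ 2 - 1 := by
    let u : {v : F × F × F // disc v = 0} → GL (Fin 2) F := fun v =>
      ⟨1 + tz v.1, 1 - tz v.1, by rw [add_mul, one_mul, mul_sub, mul_one, tz_sq, v.2, zero_smul]; abel,
        by rw [sub_mul, one_mul, mul_add, mul_one, tz_sq, v.2, zero_smul]; abel⟩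
    have hu : ∀ v, ((u v : GL (Fin 2) F) : Matrix (Fin 2) (Fin 2) F) = 1 + tz v.1 := fun v => rfl
    have hinj : ∀ v w, (QuotientGroup.mk (u v) : PGLTwo F) = QuotientGroup.mk (u w) → v = w := by
      intro v w h
      obtain ⟨r, -, hr⟩ := (mk_eq_mk_iff _ _).1 h
      rw [hu, hu] at hr
      have e : tz (w.1.1 - r * v.1.1, w.1.2.1 - r * v.1.2.1, w.1.2.2 - r * v.1.2.2) =
          (r - 1) • (1 : Matrix (Fin 2) (Fin 2) F) := by
        have hr' := fun i j => congrFun (congrFun hr i) j
        have a := hr' 0 0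
        have b := hr' 0 1
        have c := hr' 1 0
        have d := hr' 1 1
        simp [tz] at a b c d
        ext i j
        fin_cases i <;> fin_cases j <;> simp [tz]
        · linear_combination a
        · linear_combination b
        · linear_combination c
        · linear_combination d
      obtain ⟨hr1, hvw⟩ := tz_eq_smul_one h2 e
      rw [sub_eq_zero] at hr1
      rw [hr1] at hvw
      simp [Prod.ext_iff, sub_eq_zero] at hvw
      exact Subtype.ext (Prod.ext hvw.1.symm (Prod.ext hvw.2.1.symm hvw.2.2.symm))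
    have hone : ∀ v, (QuotientGroup.mk (u v) : PGLTwo F) ^ p = 1 := by
      intro v
      rw [← QuotientGroup.mk_pow, pgl2_mk_eq_one_iff, Units.val_pow_eq_pow_val, hu,
        add_pow_char_of_commute _ (Commute.one_left _), one_pow,
        pow_eq_zero_of_le (m := 2) hpp.two_le (by rw [pow_two, tz_sq, v.2, zero_smul]), add_zero]
      exact ⟨rfl, rfl, rfl⟩
    set o : {v : F × F × F // disc v = 0} := ⟨0, by simp [disc]⟩
    have ho : (QuotientGroup.mk (u o) : PGLTwo F) = 1 := by
      rw [pgl2_mk_eq_one_iff, hu]; simp [o, tz, SL2Tor.IsScalar]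
    let Φ : {v : {v : F × F × F // disc v = 0} // v ≠ o} → {x : PGLTwo F // orderOf x = p} :=
      fun v => ⟨QuotientGroup.mk (u v.1), orderOf_eq_prime (hone _)
        fun h => v.2 (hinj _ _ (h.trans ho.symm))⟩
    have hΦ : Function.Bijective Φ := by
      refine ⟨fun v w h => Subtype.ext (hinj _ _ (congrArg Subtype.val h)), ?_⟩
      rintro ⟨x, hx⟩
      obtain ⟨g, rfl⟩ := QuotientGroup.mk_surjective x
      have hgp : (QuotientGroup.mk g : PGLTwo F) ^ p = 1 := by rw [← hx, pow_orderOf_eq_one]
      rw [← QuotientGroup.mk_pow, pgl2_mk_eq_one_iff, Units.val_pow_eq_pow_val] at hgp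
      have hne : (QuotientGroup.mk g : PGLTwo F) ≠ 1 := fun h => by
        rw [h, orderOf_one] at hx; exact hpp.one_lt.ne hx
      rw [ne_eq, pgl2_mk_eq_one_iff] at hne
      obtain ⟨s, v, hgv⟩ := exists_tz h2 (g : Matrix (Fin 2) (Fin 2) F)
      obtain ⟨j, hj⟩ := hpodd
      have hpw : (g : Matrix (Fin 2) (Fin 2) F) ^ p = s ^ p • 1 + disc v ^ j • tz v := by
        rw [hgv, add_pow_char_of_commute _ ((Commute.one_left (tz v)).smul_left s), smul_pow, one_pow]
        congr 1
        rw [hj, pow_succ, pow_mul, pow_two, tz_sq, smul_pow, one_pow, smul_mul_assoc, one_mul]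
      have hd : disc v = 0 := by
        by_contra hd
        have hd' := pow_ne_zero j hd
        obtain ⟨a, b, c⟩ := hgp
        rw [hpw] at a b c
        simp [tz, hd'] at a b c
        refine hne ?_
        rw [hgv]
        refine ⟨by simp [tz, a], by simp [tz, b], ?_⟩
        have hv : v.1 = 0 := (mul_eq_zero.1 (show (2 * disc v ^ j) * v.1 = 0 by linear_combination c))
          |>.resolve_left (mul_ne_zero h2 hd')
        simp [tz, hv]
      have hs : s ≠ 0 := by
        intro h
        have := g.det.ne_zero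
        rw [Matrix.GeneralLinearGroup.val_det_apply, hgv, h, zero_smul, zero_add, det_tz, hd,
          neg_zero] at this
        exact this rfl
      set v' : F × F × F := (v.1 / s, v.2.1 / s, v.2.2 / s) with hv'
      have hd' : disc v' = 0 := by
        simp only [disc, hv'] at hd ⊢
        field_simp
        linear_combination hd
      have he : (QuotientGroup.mk (u ⟨v', hd'⟩) : PGLTwo F) = QuotientGroup.mk g := by
        refine (mk_eq_mk_iff _ _).2 ⟨s, hs, ?_⟩
        rw [hu, hgv]
        ext i j'
        fin_cases i <;> fin_cases j' <;> simp [tz, hv'] <;> field_simp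
      refine ⟨⟨⟨v', hd'⟩, fun h => hne ?_⟩, Subtype.ext he⟩
      rw [← pgl2_mk_eq_one_iff, ← he, h, ho]
    show Nat.card {x : PGLTwo F // orderOf x = p} = _
    rw [← Nat.card_eq_of_bijective Φ hΦ, Nat.card_eq_fintype_card, Fintype.card_subtype_compl,
      Fintype.card_subtype_eq, ← Nat.card_eq_fintype_card, card_singular]
  -- involutions
  have hinv : ordCount (PGLTwo F) 2 = q ^ 2 := by
    let D := {v : F × F × F // disc v ≠ 0}
    let g : D → GL (Fin 2) F := fun v => Matrix.GeneralLinearGroup.mkOfDetNeZero (tz v.1)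
      (by rw [det_tz]; exact neg_ne_zero.2 v.2)
    have hg : ∀ v, ((g v : GL (Fin 2) F) : Matrix (Fin 2) (Fin 2) F) = tz v.1 := fun v => rfl
    have hv2 : ∀ v, orderOf (QuotientGroup.mk (g v) : PGLTwo F) = 2 := by
      intro v
      refine orderOf_eq_prime ?_ fun h => ?_
      · rw [← QuotientGroup.mk_pow, pgl2_mk_eq_one_iff, Units.val_pow_eq_pow_val, pow_two, hg, tz_sq]
        exact SL2Tor.isScalar_smul_one _
      · rw [pgl2_mk_eq_one_iff, hg] at h
        obtain ⟨a, b, c⟩ := h
        simp [tz] at a b c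
        refine v.2 ?_
        have : v.1.1 = 0 := (mul_eq_zero.1 (show (2 : F) * v.1.1 = 0 by linear_combination c))
          |>.resolve_left h2
        simp [disc, this, a]
    have hsurj : ∀ x : {x : PGLTwo F // orderOf x = 2}, ∃ v : D, QuotientGroup.mk (g v) = x.1 := by
      rintro ⟨x, hx⟩
      obtain ⟨k, rfl⟩ := QuotientGroup.mk_surjective x
      have hsq := pow_orderOf_eq_one (QuotientGroup.mk k : PGLTwo F)
      rw [hx] at hsq
      have hne : (QuotientGroup.mk k : PGLTwo F) ≠ 1 := fun h => by rw [h, orderOf_one] at hx; omega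
      rw [ne_eq, pgl2_mk_eq_one_iff] at hne
      rw [← QuotientGroup.mk_pow, pgl2_mk_eq_one_iff, Units.val_pow_eq_pow_val, pow_two] at hsq
      obtain ⟨s, v, hkv⟩ := exists_tz h2 (k : Matrix (Fin 2) (Fin 2) F)
      have hs : s = 0 := by
        by_contra hs
        refine hne ?_
        obtain ⟨a, b, c⟩ := hsq
        rw [hkv] at a b c ⊢
        have h2s : 2 * s ≠ 0 := mul_ne_zero h2 hs
        simp [tz, Matrix.mul_apply, Fin.sum_univ_two] at a b c
        have e1 : v.2.1 = 0 := (mul_eq_zero.1 (show 2 * s * v.2.1 = 0 by linear_combination a)).resolve_left h2s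
        have e2 : v.2.2 = 0 := (mul_eq_zero.1 (show 2 * s * v.2.2 = 0 by linear_combination b)).resolve_left h2s
        have e3 : v.1 = 0 := (mul_eq_zero.1 (show 2 * (2 * s) * v.1 = 0 by linear_combination c)).resolve_left
          (mul_ne_zero h2 h2s)
        exact ⟨by simp [tz, e1], by simp [tz, e2], by simp [tz, e3]⟩
      have hd : disc v ≠ 0 := by
        intro h
        have := k.det.ne_zero
        rw [Matrix.GeneralLinearGroup.val_det_apply, hkv, hs, zero_smul, zero_add, det_tz, h,
          neg_zero] at this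
        exact this rfl
      refine ⟨⟨v, hd⟩, congrArg QuotientGroup.mk (Units.ext ?_)⟩
      rw [hg, hkv, hs, zero_smul, zero_add]
    choose rep hrep using hsurj
    let Ψ : {x : PGLTwo F // orderOf x = 2} × Fˣ → D := fun xu =>
      ⟨((xu.2 : F) * (rep xu.1).1.1, (xu.2 : F) * (rep xu.1).1.2.1, (xu.2 : F) * (rep xu.1).1.2.2), by
        have e : disc ((xu.2 : F) * (rep xu.1).1.1, (xu.2 : F) * (rep xu.1).1.2.1,
            (xu.2 : F) * (rep xu.1).1.2.2) = (xu.2 : F) ^ 2 * disc (rep xu.1).1 := by
          simp only [disc]; ring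
        rw [e]
        exact mul_ne_zero (pow_ne_zero 2 xu.2.ne_zero) (rep xu.1).2⟩
    have hΨm : ∀ xu, tz (Ψ xu).1 = (xu.2 : F) • tz (rep xu.1).1 := by
      intro xu
      ext i j
      fin_cases i <;> fin_cases j <;> simp [tz, Ψ]
    have hΨ : Function.Bijective Ψ := by
      constructor
      · rintro ⟨x, u⟩ ⟨y, w⟩ h
        have hm : (u : F) • tz (rep x).1 = (w : F) • tz (rep y).1 := by
          rw [← hΨm (x, u), ← hΨm (y, w), h]
        have hxy : x = y := by
          apply Subtype.ext
          rw [← hrep x, ← hrep y]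
          refine (mk_eq_mk_iff _ _).2 ⟨(u : F) / w, div_ne_zero u.ne_zero w.ne_zero, ?_⟩
          rw [hg, hg, div_eq_inv_mul, mul_smul, hm, inv_smul_smul₀ w.ne_zero]
        subst hxy
        have hne : tz (rep x).1 ≠ 0 := fun h0 => by
          have := det_tz (rep x).1
          rw [h0, Matrix.det_zero, eq_comm, neg_eq_zero] at this
          exact (rep x).2 this
        exact Prod.ext rfl (Units.ext (smul_left_injective _ hne hm))
      · intro v
        set x : {x : PGLTwo F // orderOf x = 2} := ⟨QuotientGroup.mk (g v), hv2 v⟩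
        obtain ⟨r, hr, hr'⟩ := (mk_eq_mk_iff _ _).1 (hrep x)
        rw [hg, hg] at hr'
        refine ⟨(x, Units.mk0 r hr), Subtype.ext ?_⟩
        have h00 := congrFun (congrFun hr' 0) 0
        have h01 := congrFun (congrFun hr' 0) 1
        have h10 := congrFun (congrFun hr' 1) 0
        simp [tz] at h00 h01 h10
        simp [Ψ, Prod.ext_iff, h00, h01, h10]
    have h := Nat.card_eq_of_bijective Ψ hΨ
    rw [Nat.card_prod, Nat.card_units, Nat.card_eq_fintype_card (α := F), Nat.card_eq_fintype_card (α := D),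
      Fintype.card_subtype_compl, Fintype.card_prod, Fintype.card_prod, ← Nat.card_eq_fintype_card
        (α := {v : F × F × F // disc v = 0}), card_singular, ← hq] at h
    show Nat.card {x : PGLTwo F // orderOf x = 2} = _
    refine Nat.eq_of_mul_eq_mul_right (show 0 < q - 1 by omega) (h.trans ?_)
    rw [Nat.mul_sub, mul_one, pow_two, mul_assoc]
  refine ⟨⟨hpp, ⟨f, f.pos, hf⟩, hodd, h3, ?_, hord, hnum⟩, hinv⟩
  exact (ClMax99.card_PGL_two F).trans (by rw [Nat.card_eq_fintype_card])

end Cfsg.Agent.NsePGL
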