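import Cfsg.Agent.NsePGL.Sharp
import Cfsg.Agent.NsePGL.Matrix
import Cfsg.Agent.PermB.NearField
import Cfsg.Agent.LocalEvenD.TIInvol.PGL

/-!
A group of the arithmetic shape of `PGL(2,q)` with `q²` involutions is `PGL(2,q)` (S3648).
-/

set_option autoImplicit false

namespace Cfsg.Agent.NsePGL

open Subgroup MulAction

/-- Recognition, over some field. -/
theorem exists_field_iso {G : Type*} [Group G] [Finite G] {p q : ℕ} (H : Hyp G p q)
    (h2 : ordCount G 2 = q ^ 2) :
    ∃ (K : Type) (_ : Field K) (_ : Fintype K), Fintype.card K = q ∧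
      Nonempty (G ≃* (GL (Fin 2) K ⧸ Subgroup.center (GL (Fin 2) K))) := by
  classical
  have : Fact p.Prime := ⟨H.prime⟩
  obtain ⟨f, hf, hqf⟩ := H.pow
  obtain ⟨x, hx⟩ := exists_prime_orderOf_dvd_card' (G := G) p
    (H.card ▸ (hqf ▸ dvd_pow_self p (by omega) : p ∣ q).mul_right _)
  set C := centralizer ({x} : Set G) with hC
  set a : G ⧸ nrm x := QuotientGroup.mk 1 with ha
  have := Fintype.ofFinite (G ⧸ nrm x)
  have hcardΩ : Fintype.card (G ⧸ nrm x) = q + 1 := by
    rw [← Nat.card_eq_fintype_card, ← Subgroup.index, (index_nrm H hx).1]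
  have : Nontrivial (G ⧸ nrm x) := Fintype.one_lt_card_iff_nontrivial.1 (by have := H.three; omega)
  obtain ⟨b, hba⟩ := exists_ne a
  obtain ⟨c, -, hc⟩ := Finset.exists_mem_notMem_of_card_lt_card (s := ({a, b} : Finset (G ⧸ nrm x)))
    (t := Finset.univ) (lt_of_le_of_lt Finset.card_le_two
      (by rw [Finset.card_univ, hcardΩ]; have := H.three; omega))
  simp only [Finset.mem_insert, Finset.mem_singleton, not_or] at hc
  obtain ⟨hca, hcb⟩ := hc
  have hfix : ∀ g : G, g • a = a ↔ g ∈ nrm x := fun g => by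
    refine ⟨fun h => ?_, fun h => QuotientGroup.eq.2 (by simpa using h)⟩
    have := QuotientGroup.eq.1 h.symm
    simpa using this
  have hCa : ∀ y : C, (y : G) • a = a := fun y => (hfix _).2 (le_normalizer y.2)
  have hfaith : FaithfulSMul G (G ⧸ nrm x) := ⟨fun {g k} h => by
    have := eq_one_of_fix_three H hx (g := k⁻¹ * g) hba.symm (Ne.symm hca) (Ne.symm hcb)
      (by rw [mul_smul, h, inv_smul_smul]) (by rw [mul_smul, h, inv_smul_smul])
      (by rw [mul_smul, h, inv_smul_smul])
    exact (inv_mul_eq_one.1 this).symm⟩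
  let _ : CommGroup C :=
    { (inferInstance : Group C) with
      mul_comm := fun u v => Subtype.ext (centralizer_comm H hx u.2 v.2) }
  let V := Additive C
  let π : V → G ⧸ nrm x := fun v => ((Additive.toMul v : C) : G) • b
  have πa : ∀ v, π v ≠ a := fun v h => hba (MulAction.injective _ (h.trans (hCa _).symm))
  have πinj : Function.Injective π := fun v w h =>
    Additive.toMul.injective ((exists_translation H hx hba (πa w)).unique h rfl)
  have πsurj : ∀ d, d ≠ a → ∃ v, π v = d := fun d hd =>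
    (exists_translation H hx hba hd).exists.elim fun y hy => ⟨Additive.ofMul y, hy⟩
  have π0 : π 0 = b := one_smul G b
  -- the two-point stabiliser
  let S : Subgroup G := stabilizer G a ⊓ stabilizer G b
  have hSn : ∀ h : S, (h : G) ∈ nrm x := fun h => (hfix _).1 h.2.1
  let cj : S → (C →* C) := fun h =>
    { toFun := fun v => ⟨(h : G) * v * (h : G)⁻¹, (Subgroup.mem_normalizer_iff.1 (hSn h) v).1 v.2⟩
      map_one' := Subtype.ext (by simp)
      map_mul' := fun u v => Subtype.ext (by simp [mul_assoc]) }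
  let ρ : S →* AddMonoid.End V :=
    { toFun := fun h => (MonoidHom.toAdditive (cj h) : AddMonoid.End V)
      map_one' := AddMonoidHom.ext fun v => Additive.toMul.injective (Subtype.ext
        (show ((1 : S) : G) * (Additive.toMul v : C) * ((1 : S) : G)⁻¹ = (Additive.toMul v : C) by simp))
      map_mul' := fun h k => AddMonoidHom.ext fun v => Additive.toMul.injective (Subtype.ext
        (show ((h * k : S) : G) * (Additive.toMul v : C) * ((h * k : S) : G)⁻¹ =
          (h : G) * ((k : G) * (Additive.toMul v : C) * (k : G)⁻¹) * (h : G)⁻¹ by simp [mul_assoc])) }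
  have πρ : ∀ (h : S) v, π (ρ h v) = (h : G) • π v := fun h v => by
    show ((h : G) * ((Additive.toMul v : C) : G) * (h : G)⁻¹) • b = _
    rw [mul_smul, mul_smul, inv_smul_eq_iff.2 (mem_stabilizer_iff.1 h.2.2).symm]
  obtain ⟨one, hone1⟩ := πsurj c hca
  have hone : one ≠ 0 := fun h => hcb (by rw [← hone1, h, π0])
  -- swaps
  obtain ⟨g₀, g₁, g₂⟩ := exists_smul_pair H hx (c := a) (d := b) hba.symm (c' := b) (d' := a) hba
  obtain ⟨-, hsw⟩ := sq_eq_one_of_swap H hx h2 hba.symm g₁ g₂
  obtain ⟨w, wa, wb, wc⟩ := hsw c hca hcb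
  have hw : w * w = 1 := (sq_eq_one_of_swap H hx h2 hba.symm wa wb).1
  have hwh : ∀ h : S, w * (h : G) * w = (h : G)⁻¹ := by
    intro h
    have h1 := (sq_eq_one_of_swap H hx h2 hba.symm (g := w * h)
      (by rw [mul_smul, mem_stabilizer_iff.1 h.2.1, wa])
      (by rw [mul_smul, mem_stabilizer_iff.1 h.2.2, wb])).1
    exact eq_inv_of_mul_eq_one_left (by rw [mul_assoc (w * h) w h]; exact h1)
  have hcomm : ∀ h k : S, h * k = k * h := by
    intro h k
    refine inv_injective (Subtype.ext ?_)
    show ((h * k : S) : G)⁻¹ = ((k * h : S) : G)⁻¹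
    rw [Subgroup.coe_mul, Subgroup.coe_mul, mul_inv_rev (k : G), ← hwh h, ← hwh k,
      ← Subgroup.coe_mul, ← hwh (h * k), Subgroup.coe_mul]
    calc w * ((h : G) * k) * w = w * h * (w * w) * k * w := by rw [hw]; group
      _ = w * h * w * (w * k * w) := by group
  have hinjS : ∀ h k : S, (h : G) • c = (k : G) • c → h = k := fun h k e => by
    have hm := (k⁻¹ * h).2
    have := eq_one_of_fix_three H hx hba.symm (Ne.symm hca) (Ne.symm hcb) hm.1 hm.2
      (show ((k : G)⁻¹ * (h : G)) • c = c by rw [mul_smul, e, inv_smul_smul])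
    exact (inv_mul_eq_one.1 (Subtype.ext this)).symm
  have hreg : ∀ v : V, v ≠ 0 → ∃! h : S, ρ h one = v := by
    intro v hv
    have hvb : π v ≠ b := fun e => hv (πinj (e.trans π0.symm))
    obtain ⟨-, hsw'⟩ := sq_eq_one_of_swap H hx h2 hba.symm g₁ g₂
    obtain ⟨u, ua, ub, uc⟩ := hsw' (π v) (πa v) hvb
    have u2 : u * u = 1 := (sq_eq_one_of_swap H hx h2 hba.symm ua ub).1
    -- send `c` to `π v` inside the two-point stabiliser
    have hcardS : ∀ d, d ≠ a → d ≠ b → ∃ h : S, (h : G) • c = d := by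
      have : Fintype S := Fintype.ofFinite S
      let ev : S → {d : G ⧸ nrm x // d ≠ a ∧ d ≠ b} := fun h => ⟨(h : G) • c,
        fun e => hca (MulAction.injective (h : G) (e.trans (mem_stabilizer_iff.1 h.2.1).symm)),
        fun e => hcb (MulAction.injective (h : G) (e.trans (mem_stabilizer_iff.1 h.2.2).symm))⟩
      have hev : Function.Injective ev := fun h k e => hinjS h k (congrArg Subtype.val e)
      have hcS : Nat.card S = q - 1 := by
        -- the translations and the two-point stabiliser factorise the normaliser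
        let φ : C × S → nrm x := fun yh => ⟨(yh.1 : G) * yh.2, mul_mem (le_normalizer yh.1.2) (hSn yh.2)⟩
        have hφ : Function.Bijective φ := by
          constructor
          · rintro ⟨y, h⟩ ⟨y', h'⟩ e
            have e' : (y : G) * h = (y' : G) * h' := congrArg Subtype.val e
            have hb' : (y : G) • b = (y' : G) • b := by
              conv_lhs => rw [← mem_stabilizer_iff.1 h.2.2, ← mul_smul, e', mul_smul,
                mem_stabilizer_iff.1 h'.2.2]
            obtain rfl : y = y' := (exists_translation H hx hba (d := (y' : G) • b)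
              (πa (Additive.ofMul y'))).unique hb' rfl
            exact Prod.ext rfl (Subtype.ext (mul_left_cancel e'))
          · rintro ⟨n, hn⟩
            have hna : n • a = a := (hfix n).2 hn
            obtain ⟨y, hy, -⟩ := exists_translation H hx hba (d := n • b)
              (fun e => hba (MulAction.injective n (e.trans hna.symm)))
            refine ⟨(y, ⟨(y : G)⁻¹ * n, ?_, ?_⟩), Subtype.ext (mul_inv_cancel_left _ _)⟩
            · show ((y : G)⁻¹ * n) • a = a
              rw [mul_smul, hna, inv_smul_eq_iff, hCa]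
            · show ((y : G)⁻¹ * n) • b = b
              rw [mul_smul, inv_smul_eq_iff, hy]
        have h := Nat.card_eq_of_bijective φ hφ
        rw [Nat.card_prod, hC, (class_and_card H hx).1, (index_nrm H hx).2] at h
        exact Nat.eq_of_mul_eq_mul_left (by have := H.three; omega) h
      have hbij := (Nat.bijective_iff_injective_and_card ev).2 ⟨hev, by
        rw [hcS, Nat.card_eq_fintype_card, Fintype.card_subtype, show
          (Finset.univ.filter fun d : G ⧸ nrm x => d ≠ a ∧ d ≠ b) = ({a, b} : Finset _)ᶜ by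
            ext d; simp, Finset.card_compl, hcardΩ, Finset.card_pair hba.symm]
        omega⟩
      intro d hda hdb
      exact (hbij.2 ⟨d, hda, hdb⟩).imp fun h hh => congrArg Subtype.val hh
    obtain ⟨h, hh⟩ := hcardS (π v) (πa v) hvb
    refine ⟨h, πinj (by rw [πρ, hone1, hh]), fun k hk => hinjS _ _ ?_⟩
    rw [hh, ← hone1, ← πρ, hk]
  obtain ⟨K, fK, fintK, e, μ, he1, hμ⟩ := PermB.exists_field ρ hone hreg hcomm
  have μmul : ∀ h k, μ (h * k) = μ h * μ k := fun h k => by
    have h1 := hμ (h * k) one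
    have h2' := hμ h (ρ k one)
    rw [hμ k one, he1, mul_one] at h2'
    rw [map_mul, he1, mul_one] at h1
    exact h1.symm.trans h2'
  have μ1 : μ 1 = 1 := by
    have := hμ 1 one
    rw [map_one, he1, mul_one] at this
    exact this.symm.trans he1
  have μinv : ∀ h, μ h⁻¹ = (μ h)⁻¹ := fun h =>
    (inv_eq_of_mul_eq_one_right (by rw [← μmul, mul_inv_cancel, μ1])).symm
  have μsurj : ∀ r : K, r ≠ 0 → ∃ h, μ h = r := fun r hr => by
    obtain ⟨h, hh, -⟩ := hreg (e.symm r) (fun h => hr (by rw [← e.apply_symm_apply r, h, map_zero]))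
    exact ⟨h, by rw [← e.apply_symm_apply r, ← hh, hμ, he1, mul_one]⟩
  let τ : K → G := fun r => ((Additive.toMul (e.symm r) : C) : G)
  have τb : ∀ r, τ r • b = π (e.symm r) := fun r => rfl
  have hscale : ∀ (h : S) r, (h : G) • τ r • b = τ (μ h * r) • b := fun h r => by
    rw [τb, τb, ← πρ]
    congr 1
    apply e.injective
    rw [hμ, e.apply_symm_apply, e.apply_symm_apply]
  have hτc : τ 1 • b = c := by rw [τb, ← he1, e.symm_apply_apply, hone1]
  refine ⟨K, fK, fintK, ?_, LocalEvenD.TIInvol.nonempty_equiv_pgl (F := K) τ (a := a) (b := b) hba.symm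
    (fun r s => ?_) (fun r => hCa _) (fun d hd => ?_) (fun s hs => ?_) (fun g hga hgb => ?_) wa wb
    (fun r hr => ?_)⟩
  · rw [← Nat.card_eq_fintype_card, ← Nat.card_congr e.toEquiv]
    exact (Nat.card_congr Additive.toMul).trans (class_and_card H hx).1
  · simp only [τ, map_add]
    rfl
  · obtain ⟨v, hv⟩ := πsurj d hd
    refine ⟨e v, by show _ • b = d; rw [τb, e.symm_apply_apply, hv], fun r hr => ?_⟩
    apply e.symm.injective
    rw [e.symm_apply_apply]
    exact πinj (hr.trans hv.symm)
  · obtain ⟨h, rfl⟩ := μsurj s hs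
    exact ⟨h, h.2.1, hscale h⟩
  · refine ⟨μ ⟨g, hga, hgb⟩, fun h0 => PermB.rho_ne_zero ρ ⟨g, hga, hgb⟩ hone
      (e.injective (by rw [hμ, h0, zero_mul, map_zero])), fun r => hscale ⟨g, hga, hgb⟩ r⟩
  · obtain ⟨h, rfl⟩ := μsurj r hr
    have e1 : τ (μ h) • b = (h : G) • c := by
      rw [← hτc, hscale h 1, mul_one]
    have e2 : τ (μ h⁻¹) • b = ((h⁻¹ : S) : G) • c := by
      rw [← hτc, hscale h⁻¹ 1, mul_one]
    rw [e1, ← μinv, e2, InvMemClass.coe_inv, ← hwh h, mul_smul, mul_smul, wc]

/-- Recognition of `PGL(2,q)`. -/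
theorem nonempty_iso {G : Type*} [Group G] [Finite G] {F : Type*} [Field F] [Fintype F] {p : ℕ}
    (H : Hyp G p (Fintype.card F)) (h2 : ordCount G 2 = Fintype.card F ^ 2) :
    Nonempty (G ≃* (GL (Fin 2) F ⧸ Subgroup.center (GL (Fin 2) F))) := by
  classical
  obtain ⟨K, fK, fintK, hK, ⟨φ⟩⟩ := exists_field_iso H h2
  obtain ⟨e⟩ : Nonempty (K ≃+* F) := ⟨FiniteField.ringEquivOfCardEq hK⟩
  let E : GL (Fin 2) K ≃* GL (Fin 2) F := Units.mapEquiv e.mapMatrix.toMulEquiv
  refine ⟨φ.trans (QuotientGroup.congr _ _ E ?_)⟩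
  ext g
  constructor
  · rintro ⟨k, hk, rfl⟩
    exact Subgroup.mem_center_iff.2 fun y => E.symm.injective (by
      simpa using Subgroup.mem_center_iff.1 hk (E.symm y))
  · intro hg
    exact ⟨E.symm g, Subgroup.mem_center_iff.2 fun y => E.injective (by
      simpa using Subgroup.mem_center_iff.1 hg (E y)), by simp⟩

end Cfsg.Agent.NsePGL
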