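import Cfsg.Agent.NsePGL.Count

/-!
The action on the Sylow `p`-subgroups of a group of the arithmetic shape of `PGL(2,q)` (S3648).
-/

set_option autoImplicit false
set_option linter.unusedSectionVars false

namespace Cfsg.Agent.NsePGL

open Subgroup MulAction

variable {G : Type*} [Group G] [Finite G] {p q : ℕ} (H : Hyp G p q) {x : G} (hx : orderOf x = p)

include H hx

/-- The centraliser of an element of order `p` has exponent `p`. -/
theorem pow_eq_one_of_mem_centralizer {y : G} (hy : y ∈ centralizer ({x} : Set G)) : y ^ p = 1 := by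
  have hc : Commute x y := (mem_centralizer_singleton_iff.1 hy).symm
  by_cases hp : p ∣ orderOf y
  · rw [← H.only y hp, pow_orderOf_eq_one]
  · have h := hc.orderOf_mul_eq_mul_orderOf_of_coprime
      (by rw [hx]; exact H.prime.coprime_iff_not_dvd.2 hp)
    rw [hx] at h
    have h' := H.only _ (h ▸ dvd_mul_right p (orderOf y))
    rw [h] at h'
    rw [orderOf_eq_one_iff.1 ((mul_eq_left₀ H.prime.ne_zero).1 h'), one_pow]

theorem isPGroup_centralizer : IsPGroup p (centralizer ({x} : Set G)) := fun y =>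
  ⟨1, Subtype.ext (by rw [pow_one]; exact pow_eq_one_of_mem_centralizer H hx y.2)⟩

theorem card_le_of_isPGroup {K : Subgroup G} (hK : IsPGroup p K) : Nat.card K ∣ q := by
  have : Fact p.Prime := ⟨H.prime⟩
  obtain ⟨i, hi⟩ := IsPGroup.iff_card.1 hK
  have hd : Nat.card K ∣ q * (q ^ 2 - 1) := H.card ▸ K.card_subgroup_dvd_card
  obtain ⟨f, hf, hq⟩ := H.pow
  refine Nat.Coprime.dvd_of_dvd_mul_right ?_ hd
  have hpq : Nat.Coprime p (q ^ 2 - 1) := by
    refine Nat.Coprime.coprime_dvd_left ?_ (coprime_sq_sub_one (by have := H.three; omega))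
    rw [hq]; exact dvd_pow_self p (by omega)
  rw [hi]; exact hpq.pow_left i

/-- One class of elements of order `p`, with centraliser of order `q`. -/
theorem class_and_card : Nat.card (centralizer ({x} : Set G)) = q ∧
    ∀ y : G, orderOf y = p → ∃ g : G, g * x * g⁻¹ = y := by
  have : Fact p.Prime := ⟨H.prime⟩
  set C := centralizer ({x} : Set G)
  let φ : G ⧸ C → {g : G // orderOf g = p} := fun c => ⟨c.out * x * c.out⁻¹, by
    exact (orderOf_injective (MulAut.conj c.out).toMonoidHom (MulAut.conj c.out).injective x).trans hx⟩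
  have hinj : Function.Injective φ := by
    intro c c' h
    have h' : c.out * x * c.out⁻¹ = c'.out * x * c'.out⁻¹ := congrArg Subtype.val h
    rw [← c.out_eq, ← c'.out_eq]
    refine QuotientGroup.eq.2 (mem_centralizer_singleton_iff.2 ?_)
    calc c.out⁻¹ * c'.out * x = c.out⁻¹ * (c'.out * x * c'.out⁻¹) * c'.out := by group
      _ = c.out⁻¹ * (c.out * x * c.out⁻¹) * c'.out := by rw [h']
      _ = x * (c.out⁻¹ * c'.out) := by group
  have hle := Nat.card_le_card_of_injective φ hinj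
  have hU : Nat.card {g : G // orderOf g = p} = q ^ 2 - 1 := H.numP
  rw [hU, ← Subgroup.index] at hle
  have hd := card_le_of_isPGroup H hx (isPGroup_centralizer H hx)
  have hmul := C.card_mul_index
  rw [H.card] at hmul
  have hd' : 0 < q ^ 2 - 1 := by have := H.three; have := Nat.pow_le_pow_left H.three 2; omega
  have hcard : Nat.card C = q := by
    refine le_antisymm (Nat.le_of_dvd (by have := H.three; omega) hd) ?_
    by_contra hlt
    push Not at hlt
    have := Nat.mul_le_mul_left (Nat.card C) hle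
    have := Nat.mul_lt_mul_of_pos_right hlt hd'
    omega
  refine ⟨hcard, fun y hy => ?_⟩
  have hidx : C.index = q ^ 2 - 1 := by
    rw [hcard] at hmul
    exact Nat.eq_of_mul_eq_mul_left (by have := H.three; omega) hmul
  have hbij : Function.Bijective φ := (Nat.bijective_iff_injective_and_card φ).2
    ⟨hinj, by rw [← Subgroup.index, hidx, hU]⟩
  obtain ⟨c, hc⟩ := hbij.2 ⟨y, hy⟩
  exact ⟨c.out, congrArg Subtype.val hc⟩

theorem ne_inv : x ≠ x⁻¹ := fun h => by
  have hd := orderOf_dvd_of_pow_eq_one (x := x) (n := 2) (by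
    rw [pow_two]; nth_rewrite 1 [h]; exact inv_mul_cancel x)
  rw [hx] at hd
  exact H.odd_p ((Nat.prime_dvd_prime_iff_eq H.prime Nat.prime_two).1 hd)

/-- An involution inverts `x`. -/
theorem exists_inverting : ∃ t : G, orderOf t = 2 ∧ t * x * t⁻¹ = x⁻¹ := by
  obtain ⟨g, hg⟩ := (class_and_card H hx).2 x⁻¹ (by rw [orderOf_inv, hx])
  obtain ⟨a, m, hm, hgo⟩ := Nat.exists_eq_two_pow_mul_odd (orderOf_pos g).ne'
  have hpow : ∀ j, g ^ (2 * j) * x * (g ^ (2 * j))⁻¹ = x ∧
      g ^ (2 * j + 1) * x * (g ^ (2 * j + 1))⁻¹ = x⁻¹ := by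
    have hg' : ∀ z, g * z⁻¹ * g⁻¹ = (g * z * g⁻¹)⁻¹ := fun z => by group
    intro j
    induction j with
    | zero => simp [hg]
    | succ j ih =>
      have e1 : g ^ (2 * (j + 1)) * x * (g ^ (2 * (j + 1)))⁻¹ = x := by
        calc _ = g * (g ^ (2 * j + 1) * x * (g ^ (2 * j + 1))⁻¹) * g⁻¹ := by
              rw [show 2 * (j + 1) = 2 * j + 1 + 1 by ring, pow_succ' g (2 * j + 1)]; group
          _ = x := by rw [ih.2, hg', hg, inv_inv]
      refine ⟨e1, ?_⟩
      calc _ = g * (g ^ (2 * (j + 1)) * x * (g ^ (2 * (j + 1)))⁻¹) * g⁻¹ := by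
            rw [pow_succ' g (2 * (j + 1))]; group
        _ = x⁻¹ := by rw [e1, hg]
  obtain ⟨j, rfl⟩ := hm
  set t := g ^ (2 * j + 1) with ht
  have htx : t * x * t⁻¹ = x⁻¹ := (hpow j).2
  refine ⟨t, ?_, htx⟩
  have h2a : t ^ 2 ^ a = 1 := by rw [ht, ← pow_mul, mul_comm, ← hgo, pow_orderOf_eq_one]
  have hmem : t ^ 2 ∈ centralizer ({x} : Set G) := by
    rw [mem_centralizer_singleton_iff, ← mul_inv_eq_iff_eq_mul]
    calc t ^ 2 * x * (t ^ 2)⁻¹ = t * (t * x * t⁻¹) * t⁻¹ := by rw [pow_two]; group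
      _ = t * x⁻¹ * t⁻¹ := by rw [htx]
      _ = (t * x * t⁻¹)⁻¹ := by group
      _ = x := by rw [htx, inv_inv]
  have hpp := pow_eq_one_of_mem_centralizer H hx hmem
  have h22 : (t ^ 2) ^ 2 ^ a = 1 := by rw [← pow_mul, mul_comm, pow_mul, h2a, one_pow]
  have hgcd : Nat.gcd p (2 ^ a) = 1 :=
    Nat.Coprime.pow_right a ((Nat.coprime_primes H.prime Nat.prime_two).2 H.odd_p)
  have ht2 : t ^ 2 = 1 := by
    have := pow_gcd_eq_one.2 ⟨hpp, h22⟩
    rwa [hgcd, pow_one] at this
  refine orderOf_eq_prime ht2 fun h1 => ?_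
  rw [h1, one_mul, inv_one, mul_one] at htx
  exact ne_inv H hx htx

/-- An involution inverting `x` inverts its centraliser. -/
theorem inverts {t : G} (ht : orderOf t = 2) (htx : t * x * t⁻¹ = x⁻¹) {y : G}
    (hy : y ∈ centralizer ({x} : Set G)) : t * y * t⁻¹ = y⁻¹ := by
  set C := centralizer ({x} : Set G)
  have htt : ∀ z : G, t * (t * z * t⁻¹) * t⁻¹ = z := fun z => by
    have h2 : t * t = 1 := by rw [← pow_two, ← ht, pow_orderOf_eq_one]
    calc t * (t * z * t⁻¹) * t⁻¹ = t * t * z * (t * t)⁻¹ := by group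
      _ = z := by rw [h2, one_mul, inv_one, mul_one]
  have hconj : ∀ z ∈ C, t * z * t⁻¹ ∈ C := by
    intro z hz
    rw [mem_centralizer_singleton_iff] at hz ⊢
    have h1 : Commute z x⁻¹ := (Commute.inv_right hz)
    have hti : t⁻¹ * x * t = x⁻¹ := by
      calc t⁻¹ * x * t = t⁻¹ * (t * (t * x * t⁻¹) * t⁻¹) * t := by rw [htt]
        _ = t * x * t⁻¹ := by group
        _ = x⁻¹ := htx
    calc t * z * t⁻¹ * x = t * (z * (t⁻¹ * x * t)) * t⁻¹ := by group
      _ = t * ((t⁻¹ * x * t) * z) * t⁻¹ := by rw [hti, h1.eq]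
      _ = x * (t * z * t⁻¹) := by group
  let φ : C → C := fun z => ⟨(z : G)⁻¹ * (t * z * t⁻¹), C.mul_mem (C.inv_mem z.2) (hconj _ z.2)⟩
  have hφ : Function.Injective φ := by
    intro z w e
    have e' : (z : G)⁻¹ * (t * z * t⁻¹) = (w : G)⁻¹ * (t * w * t⁻¹) := congrArg Subtype.val e
    have hu : (w : G) * (z : G)⁻¹ ∈ C := C.mul_mem w.2 (C.inv_mem z.2)
    have hfix : t * ((w : G) * (z : G)⁻¹) * t⁻¹ = (w : G) * (z : G)⁻¹ := by
      calc t * ((w : G) * (z : G)⁻¹) * t⁻¹
          = (w : G) * ((w : G)⁻¹ * (t * w * t⁻¹)) * ((z : G)⁻¹ * (t * z * t⁻¹))⁻¹ * (z : G)⁻¹ := by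
            group
        _ = (w : G) * (z : G)⁻¹ := by rw [e']; group
    by_contra hne
    have hu1 : (w : G) * (z : G)⁻¹ ≠ 1 := fun h => hne (Subtype.ext (mul_inv_eq_one.1 h).symm)
    have : Fact p.Prime := ⟨H.prime⟩
    have huo : orderOf ((w : G) * (z : G)⁻¹) = p :=
      orderOf_eq_prime (pow_eq_one_of_mem_centralizer H hx hu) hu1
    have htC : t ∈ centralizer ({(w : G) * (z : G)⁻¹} : Set G) :=
      mem_centralizer_singleton_iff.2 (mul_inv_eq_iff_eq_mul.1 hfix)
    have hd := orderOf_dvd_of_pow_eq_one (pow_eq_one_of_mem_centralizer H huo htC)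
    rw [ht] at hd
    exact H.odd_p ((Nat.prime_dvd_prime_iff_eq Nat.prime_two H.prime).1 hd).symm
  obtain ⟨z, hz⟩ := (Finite.injective_iff_surjective.1 hφ) ⟨y, hy⟩
  have hz' : (z : G)⁻¹ * (t * z * t⁻¹) = y := congrArg Subtype.val hz
  rw [← hz']
  calc t * ((z : G)⁻¹ * (t * z * t⁻¹)) * t⁻¹ = (t * z * t⁻¹)⁻¹ * (t * (t * z * t⁻¹) * t⁻¹) := by group
    _ = _ := by rw [htt]; group

theorem centralizer_comm {y z : G} (hy : y ∈ centralizer ({x} : Set G))
    (hz : z ∈ centralizer ({x} : Set G)) : y * z = z * y := by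
  obtain ⟨t, ht, htx⟩ := exists_inverting H hx
  have h := inverts H hx ht htx (mul_mem hy hz)
  refine inv_injective ?_
  calc (y * z)⁻¹ = (t * y * t⁻¹) * (t * z * t⁻¹) := by rw [← h]; group
    _ = (z * y)⁻¹ := by rw [inverts H hx ht htx hy, inverts H hx ht htx hz, mul_inv_rev]

theorem centralizer_eq {y : G} (hy : y ∈ centralizer ({x} : Set G)) (hy1 : y ≠ 1) :
    orderOf y = p ∧ centralizer ({y} : Set G) = centralizer ({x} : Set G) := by
  have : Fact p.Prime := ⟨H.prime⟩
  have hyo : orderOf y = p := orderOf_eq_prime (pow_eq_one_of_mem_centralizer H hx hy) hy1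
  refine ⟨hyo, (Subgroup.eq_of_le_of_card_ge (fun z hz => mem_centralizer_singleton_iff.2
    (centralizer_comm H hx hz hy)) ?_).symm⟩
  rw [(class_and_card H hx).1, (class_and_card H hyo).1]

/-- The normaliser of a Sylow subgroup. -/
abbrev nrm (x : G) : Subgroup G := normalizer ((centralizer ({x} : Set G) : Subgroup G) : Set G)

theorem mem_of_mem_nrm {y : G} (hy : y ∈ nrm x) (hyo : orderOf y = p) :
    y ∈ centralizer ({x} : Set G) := by
  have : Fact p.Prime := ⟨H.prime⟩
  set C := centralizer ({x} : Set G) with hC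
  have hz : IsPGroup p (zpowers y) := IsPGroup.of_card (n := 1) (by rw [Nat.card_zpowers, hyo, pow_one])
  have hsup : IsPGroup p ↥(zpowers y ⊔ C) :=
    hz.to_sup_of_normal_right' (isPGroup_centralizer H hx) ((zpowers_le).2 hy)
  have hle := Nat.le_of_dvd (by have := H.three; omega) (card_le_of_isPGroup H hx hsup)
  have he : C = zpowers y ⊔ C := Subgroup.eq_of_le_of_card_ge le_sup_right
    (by rw [hC, (class_and_card H hx).1]; exact hle)
  exact (SetLike.ext_iff.1 he y).2 (mem_sup_left (mem_zpowers y))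

theorem mem_nrm_of_conj {g y : G} (hy : y ∈ centralizer ({x} : Set G)) (hy1 : y ≠ 1)
    (hgy : g * y * g⁻¹ ∈ centralizer ({x} : Set G)) : g ∈ nrm x := by
  obtain ⟨hyo, hyc⟩ := centralizer_eq H hx hy hy1
  have hgy1 : g * y * g⁻¹ ≠ 1 := fun h => hy1 (conj_eq_one_iff.1 h)
  obtain ⟨-, hgc⟩ := centralizer_eq H hx hgy hgy1
  rw [Subgroup.mem_normalizer_iff]
  intro z
  rw [← SetLike.mem_coe, ← SetLike.mem_coe]
  show z ∈ centralizer ({x} : Set G) ↔ g * z * g⁻¹ ∈ centralizer ({x} : Set G)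
  conv_lhs => rw [← hyc]
  rw [← hgc, mem_centralizer_singleton_iff, mem_centralizer_singleton_iff]
  constructor
  · intro h
    calc g * z * g⁻¹ * (g * y * g⁻¹) = g * (z * y) * g⁻¹ := by group
      _ = g * y * g⁻¹ * (g * z * g⁻¹) := by rw [h]; group
  · intro h
    calc z * y = g⁻¹ * (g * z * g⁻¹ * (g * y * g⁻¹)) * g := by group
      _ = y * z := by rw [h]; group

theorem index_nrm : (nrm x).index = q + 1 ∧ Nat.card (nrm x) = q * (q - 1) := by
  have : Fact p.Prime := ⟨H.prime⟩
  set C := centralizer ({x} : Set G) with hC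
  have hx1 : x ≠ 1 := fun h => H.prime.one_lt.ne (by rw [← hx, h, orderOf_one])
  let ψ : (G ⧸ nrm x) × {y : C // y ≠ 1} → {g : G // orderOf g = p} := fun cy =>
    ⟨cy.1.out * (cy.2.1 : G) * cy.1.out⁻¹, by
      refine (orderOf_injective (MulAut.conj cy.1.out).toMonoidHom
        (MulAut.conj cy.1.out).injective _).trans ?_
      exact (centralizer_eq H hx cy.2.1.2 fun h => cy.2.2 (Subtype.ext h)).1⟩
  have hψ : Function.Bijective ψ := by
    constructor
    · rintro ⟨c, y⟩ ⟨c', y'⟩ h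
      have h' : c.out * (y.1 : G) * c.out⁻¹ = c'.out * (y'.1 : G) * c'.out⁻¹ := congrArg Subtype.val h
      have hn : c'.out⁻¹ * c.out ∈ nrm x := mem_nrm_of_conj H hx y.1.2 (fun e => y.2 (Subtype.ext e))
        (by
          have : c'.out⁻¹ * c.out * (y.1 : G) * (c'.out⁻¹ * c.out)⁻¹ = (y'.1 : G) := by
            calc _ = c'.out⁻¹ * (c.out * (y.1 : G) * c.out⁻¹) * c'.out := by group
              _ = _ := by rw [h']; group
          rw [this]; exact y'.1.2)
      obtain rfl : c' = c := by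
        rw [← c.out_eq, ← c'.out_eq]
        exact QuotientGroup.eq.2 hn
      simp only [mul_left_inj, mul_right_inj] at h'
      exact Prod.ext rfl (Subtype.ext (Subtype.ext h'))
    · rintro ⟨u, hu⟩
      obtain ⟨g, rfl⟩ := (class_and_card H hx).2 u hu
      set c : G ⧸ nrm x := QuotientGroup.mk g
      have hn : c.out⁻¹ * g ∈ nrm x := QuotientGroup.eq.1 c.out_eq
      have hxC : x ∈ C := mem_centralizer_singleton_iff.2 rfl
      have hm := (Subgroup.mem_normalizer_iff.1 hn x).1 hxC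
      refine ⟨(c, ⟨⟨_, hm⟩, fun e => hx1 (conj_eq_one_iff.1 (congrArg Subtype.val e))⟩), Subtype.ext ?_⟩
      show c.out * (c.out⁻¹ * g * x * (c.out⁻¹ * g)⁻¹) * c.out⁻¹ = g * x * g⁻¹
      group
  have h := Nat.card_eq_of_bijective ψ hψ
  have hU : Nat.card {g : G // orderOf g = p} = q ^ 2 - 1 := H.numP
  have : Fintype C := Fintype.ofFinite C
  classical
  rw [Nat.card_prod, ← Subgroup.index, hU, Nat.card_eq_fintype_card (α := {y : C // y ≠ 1}),
    Fintype.card_subtype_compl, Fintype.card_subtype_eq, ← Nat.card_eq_fintype_card, hC,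
    (class_and_card H hx).1, show q ^ 2 - 1 = (q + 1) * (q - 1) by rw [← Nat.sq_sub_sq, one_pow]] at h
  have hidx : (nrm x).index = q + 1 :=
    Nat.eq_of_mul_eq_mul_right (by have := H.three; omega) h
  refine ⟨hidx, Nat.eq_of_mul_eq_mul_right (m := q + 1) (by omega) ?_⟩
  rw [← hidx, Subgroup.card_mul_index, H.card, hidx,
    show q ^ 2 - 1 = (q + 1) * (q - 1) by rw [← Nat.sq_sub_sq, one_pow]]
  ring

/-- The `p`-subgroup fixing the point `a` moves everything else freely. -/
theorem eq_one_of_fix {y g : G} (hy : y ∈ centralizer ({x} : Set G)) (hg : g ∉ nrm x)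
    (h : y • (QuotientGroup.mk g : G ⧸ nrm x) = QuotientGroup.mk g) : y = 1 := by
  by_contra hy1
  have hn : g⁻¹ * y * g ∈ nrm x := by
    have := QuotientGroup.eq.1 h.symm
    simpa [mul_assoc] using this
  have hm := mem_of_mem_nrm H hx hn (by
    have := (orderOf_injective (MulAut.conj g⁻¹).toMonoidHom (MulAut.conj g⁻¹).injective y).trans
      (centralizer_eq H hx hy hy1).1
    simpa using this)
  refine hg ?_
  have hm1 : g⁻¹ * y * g ≠ 1 := fun e => hy1 (by
    calc y = g * (g⁻¹ * y * g) * g⁻¹ := by group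
      _ = 1 := by rw [e, mul_one, mul_inv_cancel])
  refine mem_nrm_of_conj H hx hm hm1 ?_
  rw [show g * (g⁻¹ * y * g) * g⁻¹ = y by group]
  exact hy

/-- The elements of order `p` fixing the point `a` are transitive on the others. -/
theorem exists_translation {c d : G ⧸ nrm x} (hc : c ≠ QuotientGroup.mk 1)
    (hd : d ≠ QuotientGroup.mk 1) : ∃! y : centralizer ({x} : Set G), (y : G) • c = d := by
  have : Fintype (G ⧸ nrm x) := Fintype.ofFinite _
  classical
  have hstay : ∀ y : centralizer ({x} : Set G), (y : G) • c ≠ QuotientGroup.mk 1 := by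
    intro y h
    refine hc (MulAction.injective (y : G) (h.trans (QuotientGroup.eq.2 ?_)))
    have hy : (y : G) ∈ nrm x := le_normalizer y.2
    simpa using hy
  obtain ⟨g, rfl⟩ := QuotientGroup.mk_surjective c
  have hg : g ∉ nrm x := fun h => hc (QuotientGroup.eq.2 (by simpa using h))
  let ev : centralizer ({x} : Set G) → {e : G ⧸ nrm x // e ≠ QuotientGroup.mk 1} :=
    fun y => ⟨(y : G) • QuotientGroup.mk g, hstay y⟩
  have hinj : Function.Injective ev := by
    intro y z h
    have h' : (y : G) • (QuotientGroup.mk g : G ⧸ nrm x) = (z : G) • QuotientGroup.mk g :=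
      congrArg Subtype.val h
    have := eq_one_of_fix H hx (mul_mem (inv_mem z.2) y.2) hg (by rw [mul_smul, h', inv_smul_smul])
    exact Subtype.ext (inv_mul_eq_one.1 this).symm
  have hbij := (Nat.bijective_iff_injective_and_card ev).2 ⟨hinj, by
    rw [(class_and_card H hx).1, Nat.card_eq_fintype_card, Fintype.card_subtype_compl,
      Fintype.card_subtype_eq, ← Nat.card_eq_fintype_card, ← Subgroup.index, (index_nrm H hx).1]
    omega⟩
  obtain ⟨y, hy⟩ := hbij.2 ⟨d, hd⟩
  exact ⟨y, congrArg Subtype.val hy, fun z hz => hinj (Subtype.ext (hz.trans (congrArg Subtype.val hy).symm))⟩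

theorem exists_smul_pair {c d : G ⧸ nrm x} (hcd : c ≠ d) {c' d' : G ⧸ nrm x} (hcd' : c' ≠ d') :
    ∃ g : G, g • c = c' ∧ g • d = d' := by
  obtain ⟨g, hg⟩ := MulAction.exists_smul_eq G c (QuotientGroup.mk 1 : G ⧸ nrm x)
  obtain ⟨g', hg'⟩ := MulAction.exists_smul_eq G c' (QuotientGroup.mk 1 : G ⧸ nrm x)
  obtain ⟨y, hy, -⟩ := exists_translation H hx (c := g • d) (d := g' • d')
    (fun h => hcd (MulAction.injective g (hg.trans h.symm)))
    (fun h => hcd' (MulAction.injective g' (hg'.trans h.symm)))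
  have hya : (y : G) • (QuotientGroup.mk 1 : G ⧸ nrm x) = QuotientGroup.mk 1 :=
    QuotientGroup.eq.2 (by simpa using le_normalizer y.2)
  refine ⟨g'⁻¹ * y * g, ?_, ?_⟩
  · rw [mul_smul, mul_smul, hg, hya, inv_smul_eq_iff, hg']
  · rw [mul_smul, mul_smul, hy, inv_smul_smul]

/-- The stabiliser of three distinct points is trivial. -/
theorem eq_one_of_fix_three {g : G} {a b c : G ⧸ nrm x} (hab : a ≠ b) (hac : a ≠ c) (hbc : b ≠ c)
    (ha : g • a = a) (hb : g • b = b) (hc : g • c = c) : g = 1 := by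
  obtain ⟨u, hu⟩ := MulAction.exists_smul_eq G a (QuotientGroup.mk 1 : G ⧸ nrm x)
  set n := u * g * u⁻¹ with hn
  have hn' : ∀ d : G ⧸ nrm x, g • d = d → n • u • d = u • d := fun d hd => by
    rw [hn, mul_smul, mul_smul, inv_smul_smul, hd]
  have hna := hn' a ha
  rw [hu] at hna
  have hnb := hn' b hb
  have hnc := hn' c hc
  have hne : ∀ d, a ≠ d → u • d ≠ QuotientGroup.mk 1 := fun d hd h =>
    hd (MulAction.injective u (hu.trans h.symm))
  obtain ⟨y, hy, hyu⟩ := exists_translation H hx (hne b hab) (hne c hac)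
  have hnN : n ∈ nrm x := by
    have := QuotientGroup.eq.1 hna.symm
    simpa using this
  have hy' : n * y * n⁻¹ ∈ centralizer ({x} : Set G) := (Subgroup.mem_normalizer_iff.1 hnN y).1 y.2
  have hny := hyu ⟨_, hy'⟩ (by
    show (n * y * n⁻¹) • u • b = u • c
    rw [mul_smul, mul_smul, inv_smul_eq_iff.2 hnb.symm, hy, hnc])
  have hy1 : (y : G) ≠ 1 := fun h => hbc (MulAction.injective u (by
    show u • b = u • c
    rw [← hy, h, one_smul]))
  have hcen : n ∈ centralizer ({(y : G)} : Set G) := mem_centralizer_singleton_iff.2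
    (mul_inv_eq_iff_eq_mul.1 (congrArg Subtype.val hny))
  rw [(centralizer_eq H hx y.2 hy1).2] at hcen
  obtain ⟨d, hd⟩ := QuotientGroup.mk_surjective (u • b)
  have h1 := eq_one_of_fix H hx hcen (g := d)
    (fun h => hne b hab (hd ▸ QuotientGroup.eq.2 (by simpa using h))) (by rw [hd]; exact hnb)
  rw [hn] at h1
  exact conj_eq_one_iff.1 h1

/-- The normaliser has `q` involutions. -/
theorem card_invol_nrm : Nat.card {t : G // orderOf t = 2 ∧ t ∈ nrm x} = q := by
  have : Fact p.Prime := ⟨H.prime⟩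
  obtain ⟨t₀, ht₀, ht₀x⟩ := exists_inverting H hx
  set C := centralizer ({x} : Set G) with hC
  have hinv : ∀ y ∈ C, t₀ * y * t₀⁻¹ = y⁻¹ := fun y hy => inverts H hx ht₀ ht₀x hy
  have hsq : ∀ {t : G}, orderOf t = 2 → t * t = 1 := fun {t} ht => by
    rw [← pow_two, ← ht, pow_orderOf_eq_one]
  have ht₀i : t₀⁻¹ = t₀ := inv_eq_of_mul_eq_one_left (hsq ht₀)
  have ht₀N : t₀ ∈ nrm x := by
    rw [Subgroup.mem_normalizer_iff]
    intro z
    constructor
    · intro hz
      rw [hinv z hz]; exact inv_mem hz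
    · intro hz
      have := hinv _ hz
      have e : t₀ * (t₀ * z * t₀⁻¹) * t₀⁻¹ = z := by
        calc _ = (t₀ * t₀) * z * (t₀ * t₀)⁻¹ := by group
          _ = z := by rw [hsq ht₀, one_mul, inv_one, mul_one]
      rw [← e, this]; exact inv_mem hz
  have ht₀C : t₀ ∉ C := fun h => by
    have hd := orderOf_dvd_of_pow_eq_one (pow_eq_one_of_mem_centralizer H hx h)
    rw [ht₀] at hd
    exact H.odd_p ((Nat.prime_dvd_prime_iff_eq Nat.prime_two H.prime).1 hd).symm
  rw [← (class_and_card H hx).1]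
  refine (Nat.card_eq_of_bijective (fun y : C => (⟨t₀ * y, orderOf_eq_prime ?_ ?_,
    mul_mem ht₀N (le_normalizer y.2)⟩ : {t : G // orderOf t = 2 ∧ t ∈ nrm x})) ⟨?_, ?_⟩).symm
  · calc (t₀ * (y : G)) ^ 2 = (t₀ * y * t₀⁻¹) * (t₀ * t₀) * y := by
          rw [pow_two]; group
      _ = 1 := by rw [hinv y y.2, hsq ht₀, mul_one, inv_mul_cancel]
  · intro h
    refine ht₀C ?_
    rw [mul_eq_one_iff_eq_inv.1 h]
    exact inv_mem y.2
  · intro y z h
    exact Subtype.ext (mul_left_cancel (congrArg Subtype.val h :))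
  · rintro ⟨t, ht, htN⟩
    have hxC : x ∈ C := mem_centralizer_singleton_iff.2 rfl
    have hx1 : x ≠ 1 := fun h => H.prime.one_lt.ne (by rw [← hx, h, orderOf_one])
    have htC : ∀ z ∈ C, t * z * t⁻¹ = z⁻¹ := by
      -- `t` inverts some non-trivial element, hence everything
      by_cases h1 : (t * x * t⁻¹) * x = 1
      · exact fun z hz => inverts H hx ht (eq_inv_of_mul_eq_one_left h1) hz
      set w := (t * x * t⁻¹)⁻¹ * x with hw
      have hwC : w ∈ C := mul_mem (inv_mem ((Subgroup.mem_normalizer_iff.1 htN x).1 hxC)) hxC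
      have hti : t⁻¹ = t := inv_eq_of_mul_eq_one_left (hsq ht)
      have hww : t * w * t⁻¹ = w⁻¹ := by
        calc t * w * t⁻¹ = (t * (t * x * t⁻¹) * t⁻¹)⁻¹ * (t * x * t⁻¹) := by rw [hw]; simp [mul_assoc]
          _ = x⁻¹ * (t * x * t⁻¹) := by
            rw [show t * (t * x * t⁻¹) * t⁻¹ = (t * t) * x * (t * t)⁻¹ by group, hsq ht]; group
          _ = w⁻¹ := by rw [hw]; group
      have hw1 : w ≠ 1 := by
        intro h
        have he : t * x * t⁻¹ = x := (inv_mul_eq_one.1 h)
        have htc : t ∈ C := mem_centralizer_singleton_iff.2 (mul_inv_eq_iff_eq_mul.1 he)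
        have hd := orderOf_dvd_of_pow_eq_one (pow_eq_one_of_mem_centralizer H hx htc)
        rw [ht] at hd
        exact H.odd_p ((Nat.prime_dvd_prime_iff_eq Nat.prime_two H.prime).1 hd).symm
      obtain ⟨hwo, hwc⟩ := centralizer_eq H hx hwC hw1
      exact fun z hz => inverts H hwo ht hww (hwc.symm ▸ hz)
    have hmem : t₀ * t ∈ C := by
      rw [hC, mem_centralizer_singleton_iff, ← mul_inv_eq_iff_eq_mul]
      calc t₀ * t * x * (t₀ * t)⁻¹ = t₀ * (t * x * t⁻¹) * t₀⁻¹ := by group
        _ = (t₀ * x * t₀⁻¹)⁻¹ := by rw [htC x hxC]; group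
        _ = x := by rw [ht₀x, inv_inv]
    exact ⟨⟨t₀ * t, hmem⟩, Subtype.ext (show t₀ * (t₀ * t) = t by rw [← mul_assoc, hsq ht₀, one_mul])⟩

/-- With `q²` involutions every element interchanging two points is an involution. -/
theorem sq_eq_one_of_swap (h2 : ordCount G 2 = q ^ 2) {g : G} {a b : G ⧸ nrm x} (hab : a ≠ b)
    (ga : g • a = b) (gb : g • b = a) : g * g = 1 ∧
      ∀ c, c ≠ a → c ≠ b → ∃ w : G, w • a = b ∧ w • b = a ∧ w • c = c := by
  classical
  have := Fintype.ofFinite G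
  have := Fintype.ofFinite (G ⧸ nrm x)
  have hΩ : Fintype.card (G ⧸ nrm x) = q + 1 := by
    rw [← Nat.card_eq_fintype_card, ← Subgroup.index, (index_nrm H hx).1]
  let T := {s : G × (G ⧸ nrm x) // s.1 • s.2 ≠ s.2 ∧ s.1 • s.1 • s.2 = s.2}
  have hthird : ∀ u v : (G ⧸ nrm x), ∃ z, z ≠ u ∧ z ≠ v := by
    intro u v
    obtain ⟨z, -, hz⟩ := Finset.exists_mem_notMem_of_card_lt_card (s := ({u, v} : Finset (G ⧸ nrm x)))
      (t := Finset.univ) (lt_of_le_of_lt Finset.card_le_two
        (by rw [Finset.card_univ, hΩ]; have := H.three; omega))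
    simp only [Finset.mem_insert, Finset.mem_singleton, not_or] at hz
    exact ⟨z, hz⟩
  -- the basepoints
  have key : ∀ third : (G ⧸ nrm x) → (G ⧸ nrm x) → (G ⧸ nrm x), (∀ u v, third u v ≠ u ∧ third u v ≠ v) →
      (∀ (t : T), t.1.1 * t.1.1 = 1) ∧
      ∀ u v z : (G ⧸ nrm x), u ≠ v → z ≠ u → z ≠ v →
        ∃ w : G, w • u = v ∧ w • v = u ∧ w • third u v = z := by
    intro third hth
    let θ : T → (Fin 3 ↪ (G ⧸ nrm x)) := fun t => ⟨![t.1.2, t.1.1 • t.1.2, t.1.1 • third t.1.2 (t.1.1 • t.1.2)], by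
      have h1 := t.2.1
      have h2' := (hth t.1.2 (t.1.1 • t.1.2)).1
      have h3 := (hth t.1.2 (t.1.1 • t.1.2)).2
      have h4 := t.2.2
      have e1 : t.1.1 • third t.1.2 (t.1.1 • t.1.2) ≠ t.1.1 • t.1.2 := fun e => h2' (MulAction.injective _ e)
      have e2 : t.1.1 • third t.1.2 (t.1.1 • t.1.2) ≠ t.1.2 := fun e =>
        h3 (MulAction.injective t.1.1 (e.trans h4.symm))
      intro i j hij
      fin_cases i <;> fin_cases j <;> first | rfl | (simp only [Fin.zero_eta, Fin.mk_one, Fin.reduceFinMk, Matrix.cons_val] at hij; first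
        | exact absurd hij h1 | exact absurd hij.symm h1
        | exact absurd hij e1 | exact absurd hij.symm e1
        | exact absurd hij e2 | exact absurd hij.symm e2)⟩
    have hθ : Function.Injective θ := by
      rintro ⟨⟨s, u⟩, hs⟩ ⟨⟨s', u'⟩, hs'⟩ e
      have e0 : u = u' := congrArg (fun X : Fin 3 ↪ (G ⧸ nrm x) => X 0) e
      have e1 : s • u = s' • u' := congrArg (fun X : Fin 3 ↪ (G ⧸ nrm x) => X 1) e
      have e2 : s • third u (s • u) = s' • third u' (s' • u') := congrArg (fun X : Fin 3 ↪ (G ⧸ nrm x) => X 2) e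
      subst e0
      rw [← e1] at e2
      have := eq_one_of_fix_three H hx (g := s'⁻¹ * s) (a := u) (b := s • u) (c := third u (s • u))
        (Ne.symm hs.1) (hth u (s • u)).1.symm (hth u (s • u)).2.symm (by rw [mul_smul, e1, inv_smul_smul])
        (by
          show (s'⁻¹ * s) • s • u = s • u
          rw [mul_smul, hs.2, inv_smul_eq_iff]
          conv_rhs => rw [e1, hs'.2])
        (by rw [mul_smul, e2, inv_smul_smul])
      rw [inv_mul_eq_one] at this
      exact Subtype.ext (Prod.ext this.symm rfl)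
    have hemb : Nat.card (Fin 3 ↪ (G ⧸ nrm x)) = (q + 1) * q * (q - 1) := by
      rw [Nat.card_eq_fintype_card, Fintype.card_embedding_eq, hΩ, Fintype.card_fin]
      simp [Nat.descFactorial_succ]
      ring
    -- the involutory part
    let I := {s : G × (G ⧸ nrm x) // orderOf s.1 = 2 ∧ s.1 • s.2 ≠ s.2}
    let ι : I → T := fun t => ⟨t.1, t.2.2, by
      have e := pow_orderOf_eq_one t.1.1
      rw [t.2.1, pow_two] at e
      rw [← mul_smul, e, one_smul]⟩
    have hι : Function.Injective ι := fun s t e => Subtype.ext (congrArg (fun v : T => v.1) e)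
    have hfix : Nat.card {s : G × (G ⧸ nrm x) // orderOf s.1 = 2 ∧ s.1 • s.2 = s.2} = (q + 1) * q := by
      let e : {s : G × (G ⧸ nrm x) // orderOf s.1 = 2 ∧ s.1 • s.2 = s.2} ≃
          (Σ c : (G ⧸ nrm x), {t : G // orderOf t = 2 ∧ t • c = c}) :=
        { toFun := fun s => ⟨s.1.2, s.1.1, s.2⟩
          invFun := fun s => ⟨(s.2.1, s.1), s.2.2⟩
          left_inv := fun s => rfl
          right_inv := fun s => rfl }
      rw [Nat.card_congr e, Nat.card_sigma, Finset.sum_const_nat (m := q) (fun c _ => ?_),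
        Finset.card_univ, hΩ]
      obtain ⟨u, hu⟩ := MulAction.exists_smul_eq G (QuotientGroup.mk 1 : (G ⧸ nrm x)) c
      conv_rhs => rw [← card_invol_nrm H hx]
      have hmem : ∀ t : G, t • (QuotientGroup.mk 1 : (G ⧸ nrm x)) = QuotientGroup.mk 1 ↔ t ∈ nrm x := fun t => by
        refine ⟨fun h => ?_, fun h => QuotientGroup.eq.2 (by simpa using h)⟩
        have := QuotientGroup.eq.1 h.symm
        simpa using this
      refine Nat.card_congr (Equiv.subtypeEquiv (MulAut.conj u⁻¹).toEquiv fun t => ?_)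
      show orderOf t = 2 ∧ t • c = c ↔ orderOf ((MulAut.conj u⁻¹) t) = 2 ∧ (MulAut.conj u⁻¹) t ∈ nrm x
      rw [← hmem, MulEquiv.orderOf_eq, MulAut.conj_apply, inv_inv, mul_smul, mul_smul, hu,
        inv_smul_eq_iff, hu]
    have hI : Nat.card I + (q + 1) * q = q ^ 2 * (q + 1) := by
      have hall : Nat.card {s : G × (G ⧸ nrm x) // orderOf s.1 = 2} = q ^ 2 * (q + 1) := by
        rw [Nat.card_congr (Equiv.prodSubtypeFstEquivSubtypeProd (p := fun t : G => orderOf t = 2)),
          Nat.card_prod, ← hΩ, ← Nat.card_eq_fintype_card]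
        congr 1
      rw [← hfix, ← hall, Nat.card_eq_fintype_card, Nat.card_eq_fintype_card, Nat.card_eq_fintype_card,
        Fintype.card_subtype, Fintype.card_subtype, Fintype.card_subtype,
        ← Finset.card_union_of_disjoint (by
          rw [Finset.disjoint_filter]; exact fun s _ h h' => h.2 h'.2)]
      congr 1
      ext s
      simp only [Finset.mem_union, Finset.mem_filter, Finset.mem_univ, true_and]
      tauto
    have hsum : (q + 1) * q * (q - 1) + (q + 1) * q = q ^ 2 * (q + 1) := by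
      have hq1 : (q - 1) + 1 = q := by have := H.three; omega
      calc (q + 1) * q * (q - 1) + (q + 1) * q = (q + 1) * q * ((q - 1) + 1) := by ring
        _ = q ^ 2 * (q + 1) := by rw [hq1]; ring
    have h1 := Nat.card_le_card_of_injective θ hθ
    have h2' := Nat.card_le_card_of_injective ι hι
    rw [hemb] at h1
    have hsurjι : Function.Surjective ι := ((Nat.bijective_iff_injective_and_card ι).2
      ⟨hι, le_antisymm h2' (by omega)⟩).2
    have hsurjθ : Function.Surjective θ := ((Nat.bijective_iff_injective_and_card θ).2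
      ⟨hθ, by rw [hemb]; omega⟩).2
    refine ⟨fun t => ?_, fun u v z huv hzu hzv => ?_⟩
    · obtain ⟨s, rfl⟩ := hsurjι t
      show s.1.1 * s.1.1 = 1
      have e := pow_orderOf_eq_one s.1.1
      rwa [s.2.1, pow_two] at e
    · let X : Fin 3 ↪ (G ⧸ nrm x) := ⟨![u, v, z], fun i j hij => by
        fin_cases i <;> fin_cases j <;> simp_all⟩
      obtain ⟨⟨⟨s, u'⟩, hs⟩, e⟩ := hsurjθ X
      have e0 : u' = u := congrArg (fun X : Fin 3 ↪ (G ⧸ nrm x) => X 0) e
      have e1 : s • u' = v := congrArg (fun X : Fin 3 ↪ (G ⧸ nrm x) => X 1) e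
      have e2 : s • third u' (s • u') = z := congrArg (fun X : Fin 3 ↪ (G ⧸ nrm x) => X 2) e
      subst e0
      rw [e1] at e2
      exact ⟨s, e1, by have := hs.2; rwa [e1] at this, e2⟩
  choose th hth using hthird
  refine ⟨(key th hth).1 ⟨(g, a), by show g • a ≠ a; rw [ga]; exact hab.symm, by show g • g • a = a; rw [ga, gb]⟩, fun c hca hcb => ?_⟩
  let th' : (G ⧸ nrm x) → (G ⧸ nrm x) → (G ⧸ nrm x) := fun u v => if u = a ∧ v = b then c else th u v
  have hth' : ∀ u v, th' u v ≠ u ∧ th' u v ≠ v := by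
    intro u v
    simp only [th']
    split
    · next h => rw [h.1, h.2]; exact ⟨hca, hcb⟩
    · exact hth u v
  obtain ⟨w, w1, w2, w3⟩ := (key th' hth').2 a b c hab hca hcb
  exact ⟨w, w1, w2, by simpa [th'] using w3⟩

end Cfsg.Agent.NsePGL
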